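import Mathlib

/-!
# BG Appendix C, Lemma C.3, step (2): Frobenius twist + rigidity (helper20)

Standalone version of helper27's step (2) (team note 2682).  All "preliminary" facts about the
configuration are explicit hypotheses; the relation `T₃` is a hypothesis in the shape of
`Cfsg.Agent.Lib.Helper21.AppC.t3_rel`.

For an `E`-pair `(u, v)` (`ψ u + ψ v = 2`) the relation `T₃` is *planar*: there are classes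
`k₁ k₂ k₃` and one `g ∈ U` with `2 ψ(t⁻³ u t³) - 1 = k₃ ψ(g)` and
`X₂^{k₂} X₁^{k₁} = X₃^{k₃}` (`Xᵢ = tⁱ s t⁻ⁱ`).
-/

set_option autoImplicit false
set_option linter.unusedVariables false
set_option linter.unusedSimpArgs false

namespace Cfsg.Agent.Lib.Helper20.AppC

section Frob

variable {G : Type*} [Group G] {F : Type*} [Field F]

theorem fc_one (P : Subgroup G) (f : G → F)
    (hfadd : ∀ x ∈ P, ∀ z ∈ P, f (x * z) = f x + f z) : f 1 = 0 := by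
  have h := hfadd 1 P.one_mem 1 P.one_mem
  rw [mul_one] at h
  linear_combination -h

theorem fc_inv (P : Subgroup G) (f : G → F)
    (hfadd : ∀ x ∈ P, ∀ z ∈ P, f (x * z) = f x + f z) : ∀ x ∈ P, f x⁻¹ = - f x := by
  intro x hx
  have h := hfadd x hx x⁻¹ (P.inv_mem hx)
  rw [mul_inv_cancel, fc_one P f hfadd] at h
  linear_combination -h

theorem fc_pow (P : Subgroup G) (f : G → F)
    (hfadd : ∀ x ∈ P, ∀ z ∈ P, f (x * z) = f x + f z) :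
    ∀ x ∈ P, ∀ k : ℕ, f (x ^ k) = (k : F) * f x := by
  intro x hx k
  induction k with
  | zero => simp [fc_one P f hfadd]
  | succ k ih =>
    rw [pow_succ, hfadd _ (P.pow_mem hx k) _ hx, ih]
    push_cast; ring

theorem fc_zpow (P : Subgroup G) (f : G → F)
    (hfadd : ∀ x ∈ P, ∀ z ∈ P, f (x * z) = f x + f z) :
    ∀ x ∈ P, ∀ k : ℤ, f (x ^ k) = (k : F) * f x := by
  intro x hx k
  cases k with
  | ofNat k => simpa using fc_pow P f hfadd x hx k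
  | negSucc k =>
    rw [zpow_negSucc, fc_inv P f hfadd _ (P.pow_mem hx _), fc_pow P f hfadd x hx]
    push_cast; ring

/-- The relation `T₃` of an `E`-pair in "level" form: three elements of `P` with explicit
`f`-values and `t² z₂ t⁻² · t z₁ t⁻¹ = t³ z₃ t⁻³`. -/
theorem frob_T3 (P U : Subgroup G) (f ψ : G → F) (s t : G)
    (hfinj : ∀ x ∈ P, ∀ z ∈ P, f x = f z → x = z)
    (hfadd : ∀ x ∈ P, ∀ z ∈ P, f (x * z) = f x + f z)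
    (hUP : ∀ u ∈ U, ∀ x ∈ P, u * x * u⁻¹ ∈ P)
    (hψf : ∀ u ∈ U, ∀ x ∈ P, f (u * x * u⁻¹) = ψ u * f x)
    (hs : s ∈ P) (hfs : f s = 1)
    (htU : ∀ k : ℤ, ∀ u ∈ U, t ^ k * u * t ^ (-k) ∈ U)
    (hT3 : ∀ u v : G, v * s * v⁻¹ * s ^ (-2 : ℤ) = u * s⁻¹ * u⁻¹ →
      (u * (t ^ (2 : ℤ) * s ^ (3 : ℤ) * t ^ (-2 : ℤ)) * u⁻¹) *
        (v * (t ^ (2 : ℤ) * s⁻¹ * t ^ (-2 : ℤ)) * v⁻¹) *
        (v * (t * s ^ (2 : ℤ) * t⁻¹) * v⁻¹) * (t * s ^ (-3 : ℤ) * t⁻¹) =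
      (u * (t ^ (3 : ℤ) * s ^ (2 : ℤ) * t ^ (-3 : ℤ)) * u⁻¹) *
        (t ^ (3 : ℤ) * s⁻¹ * t ^ (-3 : ℤ)))
    (u v : G) (hu : u ∈ U) (hv : v ∈ U) (huv : ψ u + ψ v = 2) :
    ∃ z3 ∈ P, ∃ z2 ∈ P, ∃ z1 ∈ P,
      f z3 = 2 * ψ (t ^ (-3 : ℤ) * u * t ^ (3 : ℤ)) - 1 ∧
      f z2 = 3 * ψ (t ^ (-2 : ℤ) * u * t ^ (2 : ℤ)) - ψ (t ^ (-2 : ℤ) * v * t ^ (2 : ℤ)) ∧
      f z1 = 2 * ψ (t ^ (-1 : ℤ) * v * t ^ (1 : ℤ)) - 3 ∧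
      t ^ (2 : ℤ) * z2 * t ^ (-2 : ℤ) * (t * z1 * t⁻¹) = t ^ (3 : ℤ) * z3 * t ^ (-3 : ℤ) := by
  have hu3 : t ^ (-3 : ℤ) * u * t ^ (3 : ℤ) ∈ U := by simpa using htU (-3) u hu
  have hu2 : t ^ (-2 : ℤ) * u * t ^ (2 : ℤ) ∈ U := by simpa using htU (-2) u hu
  have hv2 : t ^ (-2 : ℤ) * v * t ^ (2 : ℤ) ∈ U := by simpa using htU (-2) v hv
  have hv1 : t ^ (-1 : ℤ) * v * t ^ (1 : ℤ) ∈ U := by simpa using htU (-1) v hv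
  have hsz : ∀ k : ℤ, s ^ k ∈ P := fun k => P.zpow_mem hs k
  have hsi : s⁻¹ ∈ P := P.inv_mem hs
  have hfz : ∀ k : ℤ, f (s ^ k) = (k : F) := by
    intro k; rw [fc_zpow P f hfadd s hs k, hfs, mul_one]
  have hfi : f s⁻¹ = -1 := by rw [fc_inv P f hfadd s hs, hfs]
  have hE : v * s * v⁻¹ * s ^ (-2 : ℤ) = u * s⁻¹ * u⁻¹ := by
    apply hfinj _ (P.mul_mem (hUP v hv s hs) (hsz _)) _ (hUP u hu _ hsi)
    rw [hfadd _ (hUP v hv s hs) _ (hsz _), hψf v hv s hs, hψf u hu _ hsi, hfz, hfi, hfs]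
    push_cast
    linear_combination huv
  have h := hT3 u v hE
  refine ⟨(t ^ (-3 : ℤ) * u * t ^ (3 : ℤ)) * s ^ (2 : ℤ) * (t ^ (-3 : ℤ) * u * t ^ (3 : ℤ))⁻¹ * s⁻¹,
    P.mul_mem (hUP _ hu3 _ (hsz 2)) hsi,
    ((t ^ (-2 : ℤ) * u * t ^ (2 : ℤ)) * s ^ (3 : ℤ) * (t ^ (-2 : ℤ) * u * t ^ (2 : ℤ))⁻¹) *
      ((t ^ (-2 : ℤ) * v * t ^ (2 : ℤ)) * s⁻¹ * (t ^ (-2 : ℤ) * v * t ^ (2 : ℤ))⁻¹),
    P.mul_mem (hUP _ hu2 _ (hsz 3)) (hUP _ hv2 _ hsi),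
    ((t ^ (-1 : ℤ) * v * t ^ (1 : ℤ)) * s ^ (2 : ℤ) * (t ^ (-1 : ℤ) * v * t ^ (1 : ℤ))⁻¹) *
      s ^ (-3 : ℤ),
    P.mul_mem (hUP _ hv1 _ (hsz 2)) (hsz _), ?_, ?_, ?_, ?_⟩
  · rw [hfadd _ (hUP _ hu3 _ (hsz 2)) _ hsi, hψf _ hu3 _ (hsz 2), hfz, hfi]
    push_cast; ring
  · rw [hfadd _ (hUP _ hu2 _ (hsz 3)) _ (hUP _ hv2 _ hsi), hψf _ hu2 _ (hsz 3),
      hψf _ hv2 _ hsi, hfz, hfi]
    push_cast; ring
  · rw [hfadd _ (hUP _ hv1 _ (hsz 2)) _ (hsz _), hψf _ hv1 _ (hsz 2), hfz, hfz]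
    push_cast; ring
  · calc t ^ (2 : ℤ) * (((t ^ (-2 : ℤ) * u * t ^ (2 : ℤ)) * s ^ (3 : ℤ) *
            (t ^ (-2 : ℤ) * u * t ^ (2 : ℤ))⁻¹) *
          ((t ^ (-2 : ℤ) * v * t ^ (2 : ℤ)) * s⁻¹ * (t ^ (-2 : ℤ) * v * t ^ (2 : ℤ))⁻¹)) *
          t ^ (-2 : ℤ) * (t * (((t ^ (-1 : ℤ) * v * t ^ (1 : ℤ)) * s ^ (2 : ℤ) *
            (t ^ (-1 : ℤ) * v * t ^ (1 : ℤ))⁻¹) * s ^ (-3 : ℤ)) * t⁻¹)
        = (u * (t ^ (2 : ℤ) * s ^ (3 : ℤ) * t ^ (-2 : ℤ)) * u⁻¹) *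
          (v * (t ^ (2 : ℤ) * s⁻¹ * t ^ (-2 : ℤ)) * v⁻¹) *
          (v * (t * s ^ (2 : ℤ) * t⁻¹) * v⁻¹) * (t * s ^ (-3 : ℤ) * t⁻¹) := by group
      _ = (u * (t ^ (3 : ℤ) * s ^ (2 : ℤ) * t ^ (-3 : ℤ)) * u⁻¹) *
          (t ^ (3 : ℤ) * s⁻¹ * t ^ (-3 : ℤ)) := h
      _ = _ := by group

/-- Fermat: nonzero prime-field elements have `(p-1)`-th power `1`. -/
theorem natCast_pow_pred (p : ℕ) [Fact p.Prime] [CharP F p] (k : ℕ) (hk : ¬ p ∣ k) :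
    (k : F) ^ (p - 1) = 1 := by
  have h0 : (k : ZMod p) ≠ 0 := by
    rw [Ne, ZMod.natCast_eq_zero_iff]; exact hk
  have h1 := ZMod.pow_card_sub_one_eq_one h0
  have h2 := congrArg (ZMod.castHom (dvd_refl p) F) h1
  rwa [map_pow, map_natCast, map_one] at h2

theorem natCast_pow_char (p : ℕ) [Fact p.Prime] [CharP F p] (k : ℕ) : (k : F) ^ p = k := by
  have h1 : (k : ZMod p) ^ p = k := ZMod.pow_card _
  have h2 := congrArg (ZMod.castHom (dvd_refl p) F) h1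
  rwa [map_pow, map_natCast] at h2

/-- Step (2): for an `E`-pair the relation `T₃` is planar. -/
theorem frob_core (p : ℕ) [Fact p.Prime] [CharP F p] (n : ℕ) (P U : Subgroup G) (f ψ : G → F)
    (s t : G)
    (hfinj : ∀ x ∈ P, ∀ z ∈ P, f x = f z → x = z)
    (hfadd : ∀ x ∈ P, ∀ z ∈ P, f (x * z) = f x + f z)
    (hUP : ∀ u ∈ U, ∀ x ∈ P, u * x * u⁻¹ ∈ P)
    (hψf : ∀ u ∈ U, ∀ x ∈ P, f (u * x * u⁻¹) = ψ u * f x)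
    (hψmul : ∀ u ∈ U, ∀ v ∈ U, ψ (u * v) = ψ u * ψ v) (hψinj : Set.InjOn ψ (U : Set G))
    (hs : s ∈ P) (hfs : f s = 1) (hp2 : p ≠ 2) (hcop : Nat.Coprime n (p - 1))
    (hψn : ∀ u ∈ U, ψ u ^ n = 1)
    (hdecomp : ∀ d : F, d ≠ 0 → ∃ k : ℕ, ¬ p ∣ k ∧ ∃ u ∈ U, d = (k : F) * ψ u)
    (htU : ∀ k : ℤ, ∀ u ∈ U, t ^ k * u * t ^ (-k) ∈ U)
    (hrigid : ∀ i j : ℤ, ¬ (p : ℤ) ∣ i - j → ∀ x ∈ P, ∀ x' ∈ P,
      t ^ i * x * t ^ (-i) = t ^ j * x' * t ^ (-j) → x = 1 ∧ x' = 1)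
    (hT3 : ∀ u v : G, v * s * v⁻¹ * s ^ (-2 : ℤ) = u * s⁻¹ * u⁻¹ →
      (u * (t ^ (2 : ℤ) * s ^ (3 : ℤ) * t ^ (-2 : ℤ)) * u⁻¹) *
        (v * (t ^ (2 : ℤ) * s⁻¹ * t ^ (-2 : ℤ)) * v⁻¹) *
        (v * (t * s ^ (2 : ℤ) * t⁻¹) * v⁻¹) * (t * s ^ (-3 : ℤ) * t⁻¹) =
      (u * (t ^ (3 : ℤ) * s ^ (2 : ℤ) * t ^ (-3 : ℤ)) * u⁻¹) *
        (t ^ (3 : ℤ) * s⁻¹ * t ^ (-3 : ℤ)))
    (u v : G) (hu : u ∈ U) (hv : v ∈ U) (huv : ψ u + ψ v = 2) :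
    ∃ k1 k2 k3 : ℤ, ¬ (p : ℤ) ∣ k3 ∧ ∃ g ∈ U,
      2 * ψ (t ^ (-3 : ℤ) * u * t ^ (3 : ℤ)) - 1 = (k3 : F) * ψ g ∧
      t ^ (2 : ℤ) * s ^ k2 * t ^ (-2 : ℤ) * (t * s ^ k1 * t⁻¹) =
        t ^ (3 : ℤ) * s ^ k3 * t ^ (-3 : ℤ) := by
  have hp : p.Prime := Fact.out
  have hp1 : 0 < p - 1 := by have := hp.two_le; omega
  have hpp : p - 1 + 1 = p := by have := hp.two_le; omega
  have hn0 : n ≠ 0 := by
    rintro rfl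
    rw [Nat.coprime_zero_left] at hcop
    have := hp.two_le; omega
  have hf1 : f 1 = 0 := fc_one P f hfadd
  -- powers of ψ
  have hψpow : ∀ g ∈ U, ∀ m : ℕ, 0 < m → ψ (g ^ m) = ψ g ^ m := by
    intro g hg m hm
    induction m with
    | zero => omega
    | succ m ih =>
      rcases Nat.eq_zero_or_pos m with rfl | hm'
      · simp
      · rw [pow_succ, hψmul _ (U.pow_mem hg _) _ hg, ih hm', ← pow_succ]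
  have hconj : ∀ (k : ℤ) (g : G) (m : ℕ), t ^ k * g ^ m * t ^ (-k) = (t ^ k * g * t ^ (-k)) ^ m := by
    intro k g m; rw [zpow_neg, conj_pow]
  -- Frobenius facts
  have hfr2 : (2 : F) ^ p = 2 := by simpa using natCast_pow_char (F := F) p 2
  have hfr3 : (3 : F) ^ p = 3 := by simpa using natCast_pow_char (F := F) p 3
  -- roots of unity: (p-1)-th power is injective
  have hroot : ∀ a b : F, a ^ n = 1 → b ^ n = 1 → a ^ (p - 1) = b ^ (p - 1) → a = b := by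
    intro a b ha hb hab
    have hb0 : b ≠ 0 := by
      rintro rfl
      rw [zero_pow hn0] at hb
      exact zero_ne_one hb
    have h1 : (a * b⁻¹) ^ n = 1 := by rw [mul_pow, inv_pow, ha, hb, inv_one, mul_one]
    have h2 : (a * b⁻¹) ^ (p - 1) = 1 := by
      rw [mul_pow, inv_pow, hab, mul_inv_cancel₀ (pow_ne_zero _ hb0)]
    have h3 := (pow_eq_one_iff_of_coprime hcop).mp ⟨h1, h2⟩
    field_simp at h3
    exact h3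
  -- the two T₃ relations
  have hup : u ^ p ∈ U := U.pow_mem hu p
  have hvp : v ^ p ∈ U := U.pow_mem hv p
  have huvp : ψ (u ^ p) + ψ (v ^ p) = 2 := by
    rw [hψpow u hu p hp.pos, hψpow v hv p hp.pos, ← add_pow_char, huv, hfr2]
  obtain ⟨z3, hz3, z2, hz2, z1, hz1, hV3, hV2, hV1, hR⟩ :=
    frob_T3 P U f ψ s t hfinj hfadd hUP hψf hs hfs htU hT3 u v hu hv huv
  obtain ⟨y3, hy3, y2, hy2, y1, hy1, hW3, hW2, hW1, hR'⟩ :=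
    frob_T3 P U f ψ s t hfinj hfadd hUP hψf hs hfs htU hT3 (u ^ p) (v ^ p) hup hvp huvp
  have hu3 : t ^ (-3 : ℤ) * u * t ^ (3 : ℤ) ∈ U := by simpa using htU (-3) u hu
  have hu2 : t ^ (-2 : ℤ) * u * t ^ (2 : ℤ) ∈ U := by simpa using htU (-2) u hu
  have hv2 : t ^ (-2 : ℤ) * v * t ^ (2 : ℤ) ∈ U := by simpa using htU (-2) v hv
  have hv1 : t ^ (-1 : ℤ) * v * t ^ (1 : ℤ) ∈ U := by simpa using htU (-1) v hv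
  have e3 : t ^ (-3 : ℤ) * u ^ p * t ^ (3 : ℤ) = (t ^ (-3 : ℤ) * u * t ^ (3 : ℤ)) ^ p := by
    simpa using hconj (-3) u p
  have e2 : t ^ (-2 : ℤ) * u ^ p * t ^ (2 : ℤ) = (t ^ (-2 : ℤ) * u * t ^ (2 : ℤ)) ^ p := by
    simpa using hconj (-2) u p
  have e2' : t ^ (-2 : ℤ) * v ^ p * t ^ (2 : ℤ) = (t ^ (-2 : ℤ) * v * t ^ (2 : ℤ)) ^ p := by
    simpa using hconj (-2) v p
  have e1 : t ^ (-1 : ℤ) * v ^ p * t ^ (1 : ℤ) = (t ^ (-1 : ℤ) * v * t ^ (1 : ℤ)) ^ p := by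
    simpa using hconj (-1) v p
  have hW3' : f y3 = f z3 ^ p := by
    rw [hW3, hV3, e3, hψpow _ hu3 p hp.pos, sub_pow_char, mul_pow, hfr2, one_pow]
  have hW2' : f y2 = f z2 ^ p := by
    rw [hW2, hV2, e2, e2', hψpow _ hu2 p hp.pos, hψpow _ hv2 p hp.pos, sub_pow_char, mul_pow,
      hfr3]
  have hW1' : f y1 = f z1 ^ p := by
    rw [hW1, hV1, e1, hψpow _ hv1 p hp.pos, sub_pow_char, mul_pow, hfr2, hfr3]
  -- V₃ ≠ 0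
  have hV3ne : f z3 ≠ 0 := by
    intro h0
    rw [hV3] at h0
    have ha := hψn _ hu3
    have h2a : (2 : F) * ψ (t ^ (-3 : ℤ) * u * t ^ (3 : ℤ)) = 1 := by linear_combination h0
    have h2n : (2 : F) ^ n = 1 := by
      have := congrArg (· ^ n) h2a
      simp only [mul_pow, ha, mul_one, one_pow] at this
      exact this
    have h2p : (2 : F) ^ (p - 1) = 1 := by
      have hnd : ¬ p ∣ 2 := by
        intro hd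
        have := Nat.le_of_dvd (by norm_num) hd
        have := hp.two_le
        omega
      simpa using natCast_pow_pred (F := F) p 2 hnd
    have h21 : (2 : F) = 1 := (pow_eq_one_iff_of_coprime hcop).mp ⟨h2n, h2p⟩
    have h10 : (1 : F) = 0 := by linear_combination h21
    exact one_ne_zero h10
  have hz3ne : z3 ≠ 1 := by
    rintro rfl
    exact hV3ne hf1
  -- V₂, V₁ ≠ 0 by rigidity
  have hnd21 : ¬ (p : ℤ) ∣ (2 : ℤ) - 1 := by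
    intro hd
    have h1 : (p : ℤ) ∣ 1 := by simpa using hd
    have := Int.eq_one_of_dvd_one (by positivity) h1
    have := hp.one_lt
    omega
  have hnd23 : ¬ (p : ℤ) ∣ (2 : ℤ) - 3 := by
    intro hd
    have h1 : (p : ℤ) ∣ 1 := by
      have := (dvd_neg).mpr hd
      simpa using this
    have := Int.eq_one_of_dvd_one (by positivity) h1
    have := hp.one_lt
    omega
  have hnd13 : ¬ (p : ℤ) ∣ (1 : ℤ) - 3 := by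
    intro hd
    have h1 : (p : ℤ) ∣ 2 := by
      have := (dvd_neg).mpr hd
      simpa using this
    have h2 : p ∣ 2 := by exact_mod_cast h1
    have := Nat.le_of_dvd (by norm_num) h2
    have := hp.two_le
    omega
  have hV2ne : f z2 ≠ 0 := by
    intro h0
    have hz : z2 = 1 := hfinj _ hz2 _ P.one_mem (by rw [h0, hf1])
    subst hz
    have h1 : t ^ (1 : ℤ) * z1 * t ^ (-(1 : ℤ)) = t ^ (3 : ℤ) * z3 * t ^ (-(3 : ℤ)) := by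
      rw [← hR]; group
    exact hz3ne (hrigid 1 3 hnd13 z1 hz1 z3 hz3 h1).2
  have hV1ne : f z1 ≠ 0 := by
    intro h0
    have hz : z1 = 1 := hfinj _ hz1 _ P.one_mem (by rw [h0, hf1])
    subst hz
    have h1 : t ^ (2 : ℤ) * z2 * t ^ (-(2 : ℤ)) = t ^ (3 : ℤ) * z3 * t ^ (-(3 : ℤ)) := by
      rw [← hR]; group
    exact hz3ne (hrigid 2 3 hnd23 z2 hz2 z3 hz3 h1).2
  -- decompositions
  obtain ⟨k3, hk3, g, hg, hd3⟩ := hdecomp _ hV3ne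
  obtain ⟨k2, hk2, g2, hg2, hd2⟩ := hdecomp _ hV2ne
  obtain ⟨k1, hk1, g1, hg1, hd1⟩ := hdecomp _ hV1ne
  -- w := g^(p-1)
  have hw : g ^ (p - 1) ∈ U := U.pow_mem hg _
  have hψw : ψ (g ^ (p - 1)) = ψ g ^ (p - 1) := hψpow g hg _ hp1
  have hwz3 : g ^ (p - 1) * z3 * (g ^ (p - 1))⁻¹ = y3 := by
    apply hfinj _ (hUP _ hw _ hz3) _ hy3
    rw [hψf _ hw _ hz3, hW3', hψw, hd3, mul_pow, natCast_pow_char]
    have e : ψ g ^ p = ψ g ^ (p - 1) * ψ g := by rw [← pow_succ, hpp]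
    rw [e]; ring
  have hw1 : t * g ^ (p - 1) * t⁻¹ ∈ U := by simpa using htU 1 _ hw
  have hw2 : t ^ (2 : ℤ) * g ^ (p - 1) * t ^ (-2 : ℤ) ∈ U := by simpa using htU 2 _ hw
  have hA : t * g ^ (p - 1) * t⁻¹ * z2 * (t * g ^ (p - 1) * t⁻¹)⁻¹ ∈ P := hUP _ hw1 _ hz2
  have hB : t ^ (2 : ℤ) * g ^ (p - 1) * t ^ (-2 : ℤ) * z1 *
      (t ^ (2 : ℤ) * g ^ (p - 1) * t ^ (-2 : ℤ))⁻¹ ∈ P := hUP _ hw2 _ hz1
  have hclaim : t ^ (2 : ℤ) * (t * g ^ (p - 1) * t⁻¹ * z2 * (t * g ^ (p - 1) * t⁻¹)⁻¹) *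
      t ^ (-2 : ℤ) * (t * (t ^ (2 : ℤ) * g ^ (p - 1) * t ^ (-2 : ℤ) * z1 *
      (t ^ (2 : ℤ) * g ^ (p - 1) * t ^ (-2 : ℤ))⁻¹) * t⁻¹) =
      t ^ (2 : ℤ) * y2 * t ^ (-2 : ℤ) * (t * y1 * t⁻¹) := by
    calc t ^ (2 : ℤ) * (t * g ^ (p - 1) * t⁻¹ * z2 * (t * g ^ (p - 1) * t⁻¹)⁻¹) *
          t ^ (-2 : ℤ) * (t * (t ^ (2 : ℤ) * g ^ (p - 1) * t ^ (-2 : ℤ) * z1 *
          (t ^ (2 : ℤ) * g ^ (p - 1) * t ^ (-2 : ℤ))⁻¹) * t⁻¹)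
        = (t ^ (3 : ℤ) * g ^ (p - 1) * t ^ (-3 : ℤ)) *
          (t ^ (2 : ℤ) * z2 * t ^ (-2 : ℤ) * (t * z1 * t⁻¹)) *
          (t ^ (3 : ℤ) * g ^ (p - 1) * t ^ (-3 : ℤ))⁻¹ := by group
      _ = (t ^ (3 : ℤ) * g ^ (p - 1) * t ^ (-3 : ℤ)) * (t ^ (3 : ℤ) * z3 * t ^ (-3 : ℤ)) *
          (t ^ (3 : ℤ) * g ^ (p - 1) * t ^ (-3 : ℤ))⁻¹ := by rw [hR]
      _ = t ^ (3 : ℤ) * (g ^ (p - 1) * z3 * (g ^ (p - 1))⁻¹) * t ^ (-3 : ℤ) := by group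
      _ = t ^ (3 : ℤ) * y3 * t ^ (-3 : ℤ) := by rw [hwz3]
      _ = _ := hR'.symm
  have hsplit : t ^ (2 : ℤ) * (y2⁻¹ * (t * g ^ (p - 1) * t⁻¹ * z2 * (t * g ^ (p - 1) * t⁻¹)⁻¹)) *
      t ^ (-(2 : ℤ)) = t ^ (1 : ℤ) * (y1 * (t ^ (2 : ℤ) * g ^ (p - 1) * t ^ (-2 : ℤ) * z1 *
      (t ^ (2 : ℤ) * g ^ (p - 1) * t ^ (-2 : ℤ))⁻¹)⁻¹) * t ^ (-(1 : ℤ)) := by
    have e : t ^ (2 : ℤ) * (y2⁻¹ * (t * g ^ (p - 1) * t⁻¹ * z2 * (t * g ^ (p - 1) * t⁻¹)⁻¹)) *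
        t ^ (-(2 : ℤ)) = (t ^ (2 : ℤ) * y2 * t ^ (-2 : ℤ))⁻¹ *
        (t ^ (2 : ℤ) * (t * g ^ (p - 1) * t⁻¹ * z2 * (t * g ^ (p - 1) * t⁻¹)⁻¹) *
        t ^ (-2 : ℤ) * (t * (t ^ (2 : ℤ) * g ^ (p - 1) * t ^ (-2 : ℤ) * z1 *
        (t ^ (2 : ℤ) * g ^ (p - 1) * t ^ (-2 : ℤ))⁻¹) * t⁻¹)) *
        (t * (t ^ (2 : ℤ) * g ^ (p - 1) * t ^ (-2 : ℤ) * z1 *
        (t ^ (2 : ℤ) * g ^ (p - 1) * t ^ (-2 : ℤ))⁻¹) * t⁻¹)⁻¹ := by group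
    rw [e, hclaim]; group
  obtain ⟨hAy, hBy⟩ := hrigid 2 1 hnd21 _ (P.mul_mem (P.inv_mem hy2) hA) _
    (P.mul_mem hy1 (P.inv_mem hB)) hsplit
  rw [inv_mul_eq_one] at hAy
  rw [mul_inv_eq_one] at hBy
  -- f-values
  have hfA : ψ (t * g ^ (p - 1) * t⁻¹) * f z2 = f z2 ^ p := by
    rw [← hψf _ hw1 _ hz2, ← hAy, hW2']
  have hfB : ψ (t ^ (2 : ℤ) * g ^ (p - 1) * t ^ (-2 : ℤ)) * f z1 = f z1 ^ p := by
    rw [← hψf _ hw2 _ hz1, ← hBy, hW1']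
  have hfA' : ψ (t * g ^ (p - 1) * t⁻¹) = f z2 ^ (p - 1) := by
    have : f z2 ^ p = f z2 ^ (p - 1) * f z2 := by rw [← pow_succ, hpp]
    rw [this] at hfA
    exact mul_right_cancel₀ hV2ne hfA
  have hfB' : ψ (t ^ (2 : ℤ) * g ^ (p - 1) * t ^ (-2 : ℤ)) = f z1 ^ (p - 1) := by
    have : f z1 ^ p = f z1 ^ (p - 1) * f z1 := by rw [← pow_succ, hpp]
    rw [this] at hfB
    exact mul_right_cancel₀ hV1ne hfB
  have htg1 : t * g * t⁻¹ ∈ U := by simpa using htU 1 g hg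
  have htg2 : t ^ (2 : ℤ) * g * t ^ (-2 : ℤ) ∈ U := by simpa using htU 2 g hg
  have hg2eq : g2 = t * g * t⁻¹ := by
    apply hψinj hg2 htg1
    apply hroot _ _ (hψn _ hg2) (hψn _ htg1)
    have e : t * g ^ (p - 1) * t⁻¹ = (t * g * t⁻¹) ^ (p - 1) := by rw [conj_pow]
    rw [← hψpow _ htg1 _ hp1, ← e, hfA', hd2, mul_pow, natCast_pow_pred p k2 hk2, one_mul]
  have hg1eq : g1 = t ^ (2 : ℤ) * g * t ^ (-2 : ℤ) := by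
    apply hψinj hg1 htg2
    apply hroot _ _ (hψn _ hg1) (hψn _ htg2)
    have e : t ^ (2 : ℤ) * g ^ (p - 1) * t ^ (-2 : ℤ) = (t ^ (2 : ℤ) * g * t ^ (-2 : ℤ)) ^ (p - 1) :=
      hconj 2 g (p - 1)
    rw [← hψpow _ htg2 _ hp1, ← e, hfB', hd1, mul_pow, natCast_pow_pred p k1 hk1, one_mul]
  -- the three vertices are conjugates of powers of s
  have hsk : ∀ k : ℕ, s ^ k ∈ P := fun k => P.pow_mem hs k
  have hfsk : ∀ k : ℕ, f (s ^ k) = (k : F) := by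
    intro k; rw [fc_pow P f hfadd s hs k, hfs, mul_one]
  have hz3eq : z3 = g * s ^ k3 * g⁻¹ := by
    apply hfinj _ hz3 _ (hUP _ hg _ (hsk _))
    rw [hψf _ hg _ (hsk _), hfsk, hd3, mul_comm]
  have hz2eq : z2 = (t * g * t⁻¹) * s ^ k2 * (t * g * t⁻¹)⁻¹ := by
    apply hfinj _ hz2 _ (hUP _ htg1 _ (hsk _))
    rw [hψf _ htg1 _ (hsk _), hfsk, hd2, hg2eq, mul_comm]
  have hz1eq : z1 = (t ^ (2 : ℤ) * g * t ^ (-2 : ℤ)) * s ^ k1 * (t ^ (2 : ℤ) * g * t ^ (-2 : ℤ))⁻¹ := by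
    apply hfinj _ hz1 _ (hUP _ htg2 _ (hsk _))
    rw [hψf _ htg2 _ (hsk _), hfsk, hd1, hg1eq, mul_comm]
  refine ⟨(k1 : ℤ), (k2 : ℤ), (k3 : ℤ), ?_, g, hg, ?_, ?_⟩
  · exact_mod_cast hk3
  · rw [← hV3, hd3]; push_cast; ring
  · rw [hz3eq, hz2eq, hz1eq] at hR
    rw [zpow_natCast, zpow_natCast, zpow_natCast]
    calc t ^ (2 : ℤ) * s ^ k2 * t ^ (-2 : ℤ) * (t * s ^ k1 * t⁻¹)
        = (t ^ (3 : ℤ) * g⁻¹ * t ^ (-3 : ℤ)) *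
          (t ^ (2 : ℤ) * ((t * g * t⁻¹) * s ^ k2 * (t * g * t⁻¹)⁻¹) * t ^ (-2 : ℤ) *
          (t * ((t ^ (2 : ℤ) * g * t ^ (-2 : ℤ)) * s ^ k1 * (t ^ (2 : ℤ) * g * t ^ (-2 : ℤ))⁻¹) *
          t⁻¹)) * (t ^ (3 : ℤ) * g * t ^ (-3 : ℤ)) := by group
      _ = (t ^ (3 : ℤ) * g⁻¹ * t ^ (-3 : ℤ)) * (t ^ (3 : ℤ) * (g * s ^ k3 * g⁻¹) * t ^ (-3 : ℤ)) *
          (t ^ (3 : ℤ) * g * t ^ (-3 : ℤ)) := by rw [hR]
      _ = _ := by group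

end Frob

end Cfsg.Agent.Lib.Helper20.AppC
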